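import Cfsg.Agent.H133.Kite.Basic
import Cfsg.Agent.H769.PB.CoThreeRank5

/-!
# Kite in the degree graph of `Co3` (helper133)
-/

set_option autoImplicit false

namespace Cfsg.Agent.H133.Kite

open Cfsg Cfsg.Agent.H671.H5 Cfsg.Agent.H670.Reg

universe u

/-- `Co3`: the degree `8855`. -/
theorem kite_co3 {S : Type u} [Group S] (h : Spor.IsoCo3 S) : Kite S := by
  obtain ⟨e⟩ := h
  refine of_equiv e ?_
  refine kite_of_list (P := [5, 7, 11, 23]) (D := [8855]) ?_ ?_ (by decide +kernel)
  · intro p hp; fin_cases hp <;> norm_num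
  · intro m hm
    rw [List.mem_singleton] at hm
    subst hm
    obtain ⟨-, χ, h, -⟩ := H769.PB.CoThreeRank5.exists_chars
    exact ⟨χ, by rw [h]⟩

end Cfsg.Agent.H133.Kite
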