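import Cfsg.Agent.H133.Kite.Basic
import Cfsg.Agent.H492.IMHN

/-!
# Kite in the degree graph of `HN` (helper133)
-/

set_option autoImplicit false

namespace Cfsg.Agent.H133.Kite

open Cfsg Cfsg.Agent.H671.H5 Cfsg.Agent.H670.Reg

universe u

/-- `HN`: the degree `8910`. -/
theorem kite_hn {S : Type u} [Group S] (h : Spor.IsoHN S) : Kite S := by
  obtain ⟨e⟩ := h
  have hc := Cfsg.Agent.H492.IMHN.card_hn
  have : Finite Cfsg.Spor.HN := Nat.finite_of_card_ne_zero (by rw [hc]; norm_num)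
  refine of_equiv e ?_
  refine kite_of_list (P := [2, 3, 5, 11]) (D := [8910]) ?_ ?_ (by decide +kernel)
  · intro p hp; fin_cases hp <;> norm_num
  · intro m hm
    rw [List.mem_singleton] at hm
    subst hm
    obtain ⟨χ, hχ⟩ := Cfsg.Agent.H492.IMHN.exists_8910
    exact ⟨χ, by rw [Cfsg.Agent.H670.PSing.charDegree_eq_of hχ]⟩

end Cfsg.Agent.H133.Kite
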