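import Cfsg.Agent.H133.Kite.Basic
import Cfsg.Agent.H678.DG.HeDegA

/-!
# Kite in the degree graph of `He` (helper133)
-/

set_option autoImplicit false

namespace Cfsg.Agent.H133.Kite

open Cfsg Cfsg.Agent.H671.H5 Cfsg.Agent.H670.Reg

universe u

/-- `He`: the degrees `680` and `1275`. -/
theorem kite_he {S : Type u} [Group S] (h : Spor.IsoHe S) : Kite S := by
  obtain ⟨e⟩ := h
  refine of_equiv e ?_
  refine kite_of_list (P := [5, 17, 2, 3]) (D := [680, 1275]) ?_ ?_ (by decide +kernel)
  · intro p hp; fin_cases hp <;> norm_num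
  · intro m hm
    simp only [List.mem_cons, List.not_mem_nil, or_false] at hm
    rcases hm with rfl | rfl
    · exact im_of_deg H678.DG.HeDegA.deg_680
    · exact im_of_deg H678.DG.HeDegA.deg_1275

end Cfsg.Agent.H133.Kite
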