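import Cfsg.Agent.H133.Kite.Basic
import Cfsg.Agent.H653.Spor.J3

/-!
# Kite in the degree graph of `J3` (helper133)
-/

set_option autoImplicit false

namespace Cfsg.Agent.H133.Kite

open Cfsg Cfsg.Agent.H671.H5 Cfsg.Agent.H670.Reg Cfsg.Agent.H678.DG

universe u

/-- `J3`: the degree graph is complete. -/
theorem kite_j3 {S : Type u} [Group S] (h : Spor.IsoJ3 S) : Kite S := by
  have hc : Nat.card S = 50232960 := (H898.J3Cent.base h).2.1
  have : Finite S := Nat.finite_of_card_ne_zero (by rw [hc]; norm_num)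
  have hcl : ∀ m ∈ [6, 10, 34, 15, 51], IM m S := by
    intro m hm
    obtain ⟨n, hn, χ, hχ⟩ := H653.Spor.J3.clauses h [m] (by
      simp only [List.mem_cons, List.not_mem_nil, or_false] at hm ⊢
      rcases hm with rfl | rfl | rfl | rfl | rfl <;> simp)
    rw [List.mem_singleton] at hn
    subst hn
    exact ⟨χ, hχ⟩
  refine kite_of_list (P := [2, 3, 5, 17]) (D := [6, 10, 34, 15, 51]) ?_ hcl (by decide +kernel)
  intro p hp; fin_cases hp <;> norm_num

end Cfsg.Agent.H133.Kite
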