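import Cfsg.Agent.H133.Kite.Basic
import Cfsg.Agent.H678.DG.McL

/-!
# Kite in the degree graph of `McL` (helper133)
-/

set_option autoImplicit false

namespace Cfsg.Agent.H133.Kite

open Cfsg Cfsg.Agent.H671.H5 Cfsg.Agent.H670.Reg

universe u

open Cfsg.Agent.H904.McLCent Cfsg.Agent.McLType.X275 Cfsg.Agent.McLType.Gens in
/-- `McL`: the degrees `3520` and `4500`. -/
theorem kite_mcl {S : Type u} [Group S] (h : Spor.IsoMcL S) : Kite S := by
  obtain ⟨θ, R⟩ := exists_rep h
  let f : S ≃* K0 := (MonoidHom.ofInjective R.inj).trans (MulEquiv.subgroupCongr R.range)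
  refine of_equiv f ?_
  refine kite_of_list (P := [2, 5, 3, 11]) (D := [3520, 4500]) ?_ ?_ (by decide +kernel)
  · intro p hp; fin_cases hp <;> norm_num
  · intro m hm
    simp only [List.mem_cons, List.not_mem_nil, or_false] at hm
    rcases hm with rfl | rfl
    · exact im_of_deg H678.DG.McLDeg.deg_3520
    · exact im_of_deg H678.DG.McLDeg.deg_4500

end Cfsg.Agent.H133.Kite
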