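import Cfsg.Agent.H133.Kite.Basic
import Cfsg.Agent.H690.Spor.Ru
import Cfsg.Agent.H671.Spor.MTwentyTwo

/-!
# Kite in the degree graph of `Ru` (helper133)
-/

set_option autoImplicit false

namespace Cfsg.Agent.H133.Kite

open Cfsg Cfsg.Agent.H671.H5 Cfsg.Agent.H670.Reg

universe u

/-- `Ru`: the degree `3276`. -/
theorem kite_ru {S : Type u} [Group S] (h : Spor.IsoRu S) : Kite S := by
  obtain ⟨e⟩ := h
  refine of_equiv (e.trans RuLat.Main.equiv) ?_
  have hfin : Finite SporadicB.RuOrder.H := Cfsg.Agent.H690.Spor.Ru.instFiniteH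
  obtain ⟨R, hR⟩ := Cfsg.Agent.H690.Spor.Ru.r3
  have h2 := H671.MFacts.im_of_chkf hR (Or.inl (by decide)) (f0 := 783) (g0 := 3276) rfl (by decide +kernel)
  refine kite_of_list (P := [2, 3, 7, 13]) (D := [3276]) ?_ ?_ (by decide +kernel)
  · intro p hp; fin_cases hp <;> norm_num
  · intro m hm
    rw [List.mem_singleton] at hm
    subst hm
    exact h2.2

end Cfsg.Agent.H133.Kite
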