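import Cfsg.Agent.H133.Kite.RowsA
import Cfsg.Agent.H133.Kite.RowJOne
import Cfsg.Agent.H133.Kite.RowJThree
import Cfsg.Agent.H133.Kite.RowHS
import Cfsg.Agent.H133.Kite.RowMcL
import Cfsg.Agent.H133.Kite.RowHe
import Cfsg.Agent.H133.Kite.RowsSuzFi
import Cfsg.Agent.H133.Kite.RowHN
import Cfsg.Agent.H133.Kite.RowCoTwo
import Cfsg.Agent.H133.Kite.RowCoThree
import Cfsg.Agent.H133.Kite.RowRu
import Cfsg.Agent.NotCT.Orders
import Cfsg.Prelude.Def_Classification2

/-!
# Kites in the degree graphs of the sporadic groups with five or six prime divisors (helper133)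
-/

set_option autoImplicit false

namespace Cfsg.Agent.H133.Kite

open Cfsg Cfsg.Agent.H671.H5 Cfsg.Agent.H670.Reg

universe u

theorem pf_card_le {n : ℕ} (L : List ℕ) (hp : ∀ p ∈ L, p.Prime) (hd : n ∣ (L.map fun p => p ^ 12).prod) :
    n.primeFactors.card ≤ L.length := by
  refine (Finset.card_le_card (t := L.toFinset) ?_).trans (List.toFinset_card_le L)
  intro p hpn
  have hpp := Nat.prime_of_mem_primeFactors hpn
  have h1 : p ∣ (L.map fun p => p ^ 12).prod := (Nat.dvd_of_mem_primeFactors hpn).trans hd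
  rw [Prime.dvd_prod_iff hpp.prime] at h1
  obtain ⟨a, ha, hpa⟩ := h1
  rw [List.mem_map] at ha
  obtain ⟨q, hq, rfl⟩ := ha
  have h2 : p ∣ q := hpp.dvd_of_dvd_pow hpa
  rw [Nat.prime_dvd_prime_iff_eq hpp (hp q hq)] at h2
  rw [List.mem_toFinset, h2]
  exact hq

theorem pf_card_ge {n : ℕ} (hn : n ≠ 0) (L : List ℕ) (hnd : L.Nodup) (hp : ∀ p ∈ L, p.Prime) (hd : ∀ p ∈ L, p ∣ n) :
    L.length ≤ n.primeFactors.card := by
  rw [← List.toFinset_card_of_nodup hnd]
  refine Finset.card_le_card ?_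
  intro p hpL
  rw [List.mem_toFinset] at hpL
  exact Nat.mem_primeFactors.2 ⟨hp p hpL, hd p hpL, hn⟩

theorem no4 {S : Type u} {n : ℕ} (hc : Nat.card S = n) (L : List ℕ) (hl : L.length ≤ 4) (hp : ∀ p ∈ L, p.Prime)
    (hd : n ∣ (L.map fun p => p ^ 12).prod) (h5 : 5 ≤ (Nat.card S).primeFactors.card) : False := by
  have := pf_card_le L hp hd
  rw [hc] at h5
  omega

theorem no7 {S : Type u} {n : ℕ} (hc : Nat.card S = n) (hn : n ≠ 0) (L : List ℕ) (hl : 7 ≤ L.length) (hnd : L.Nodup)
    (hp : ∀ p ∈ L, p.Prime) (hd : ∀ p ∈ L, p ∣ n) (h6 : (Nat.card S).primeFactors.card ≤ 6) : False := by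
  have := pf_card_ge hn L hnd hp hd
  rw [hc] at h6
  omega

/-- **Kites in the sporadic groups** with five or six prime divisors. -/
theorem kite_sporadic {S : Type u} [Group S] (h : IsSporadicGroup S) (h5 : 5 ≤ (Nat.card S).primeFactors.card)
    (h6 : (Nat.card S).primeFactors.card ≤ 6) : Kite S := by
  rcases h with h | h | h | h | h | h | h | h | h | h | h | h | h | h | h | h | h | h | h | h | h | h | h | h | h | h
  · refine (no4 (NotCT.Orders.m11 h) [2, 3, 5, 11] (by decide) ?_ (by decide +kernel) h5).elim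
    intro p hp; fin_cases hp <;> norm_num
  · refine (no4 (NotCT.Orders.m12 h) [2, 3, 5, 11] (by decide) ?_ (by decide +kernel) h5).elim
    intro p hp; fin_cases hp <;> norm_num
  · exact kite_m22 h
  · exact kite_m23 h
  · exact kite_m24 h
  · exact kite_j1 h
  · refine (no4 (NotCT.Orders.j2 h) [2, 3, 5, 7] (by decide) ?_ (by decide +kernel) h5).elim
    intro p hp; fin_cases hp <;> norm_num
  · exact kite_j3 h
  · refine (no7 (NotCT.Orders.j4 h) (by norm_num) [2, 3, 5, 7, 11, 23, 29] (by decide) (by decide) ?_ ?_ h6).elim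
    · intro p hp; fin_cases hp <;> norm_num
    · intro p hp; fin_cases hp <;> norm_num
  · refine (no7 (NotCT.Orders.co1 h) (by norm_num) [2, 3, 5, 7, 11, 13, 23] (by decide) (by decide) ?_ ?_ h6).elim
    · intro p hp; fin_cases hp <;> norm_num
    · intro p hp; fin_cases hp <;> norm_num
  · exact kite_co2 h
  · exact kite_co3 h
  · exact kite_mcl h
  · exact kite_hs h
  · exact kite_suz h
  · exact kite_he h
  · exact kite_ru h
  · refine (no7 (NotCT.Orders.on h) (by norm_num) [2, 3, 5, 7, 11, 19, 31] (by decide) (by decide) ?_ ?_ h6).elim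
    · intro p hp; fin_cases hp <;> norm_num
    · intro p hp; fin_cases hp <;> norm_num
  · refine (no7 (NotCT.Orders.ly h) (by norm_num) [2, 3, 5, 7, 11, 31, 37] (by decide) (by decide) ?_ ?_ h6).elim
    · intro p hp; fin_cases hp <;> norm_num
    · intro p hp; fin_cases hp <;> norm_num
  · exact kite_fi22 h
  · refine (no7 (NotCT.Orders.fi23 h) (by norm_num) [2, 3, 5, 7, 11, 13, 17] (by decide) (by decide) ?_ ?_ h6).elim
    · intro p hp; fin_cases hp <;> norm_num
    · intro p hp; fin_cases hp <;> norm_num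
  · refine (no7 (NotCT.Orders.fi24 h) (by norm_num) [2, 3, 5, 7, 11, 13, 17] (by decide) (by decide) ?_ ?_ h6).elim
    · intro p hp; fin_cases hp <;> norm_num
    · intro p hp; fin_cases hp <;> norm_num
  · exact kite_hn h
  · refine (no7 (NotCT.Orders.th h) (by norm_num) [2, 3, 5, 7, 13, 19, 31] (by decide) (by decide) ?_ ?_ h6).elim
    · intro p hp; fin_cases hp <;> norm_num
    · intro p hp; fin_cases hp <;> norm_num
  · refine (no7 (NotCT.Orders.b h) (by norm_num) [2, 3, 5, 7, 11, 13, 17] (by decide) (by decide) ?_ ?_ h6).elim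
    · intro p hp; fin_cases hp <;> norm_num
    · intro p hp; fin_cases hp <;> norm_num
  · refine (no7 (NotCT.Orders.m h) (by norm_num) [2, 3, 5, 7, 11, 13, 17] (by decide) (by decide) ?_ ?_ h6).elim
    · intro p hp; fin_cases hp <;> norm_num
    · intro p hp; fin_cases hp <;> norm_num

end Cfsg.Agent.H133.Kite
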